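import Mathlib
import Groth.Agent.Lib.Helper47.RegularCotangent

/-!
# Jacobian criterion ⇒ regular quotient (helper88)

`A_p` regular local, `f_1, …, f_m ∈ p`, derivations `D_1, …, D_m` of `A` with
`det (D_i f_j) ∉ p`.  Then `A_p / (f_1, …, f_m)` is a regular local ring.
-/

set_option autoImplicit false
set_option linter.unusedSectionVars false

universe u

namespace Groth.Agent.Lib.Helper88.Jacobian

open IsLocalRing

variable {R A : Type u} [CommRing R] [CommRing A] [Algebra R A] (p : Ideal A) [p.IsPrime]

theorem derivation_sq_mem (D : Derivation R A A) (I : Ideal A) (x : A) (hx : x ∈ I ^ 2) :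
    D x ∈ I := by
  rw [pow_two] at hx
  refine Submodule.mul_induction_on hx ?_ ?_
  · intro a ha b hb
    rw [Derivation.leibniz, smul_eq_mul, smul_eq_mul]
    exact I.add_mem (I.mul_mem_right _ ha) (I.mul_mem_right _ hb)
  · intro a b ha hb
    rw [map_add]
    exact I.add_mem ha hb

theorem isRegularLocalRing_quotient_of_jacobian [IsRegularLocalRing (Localization.AtPrime p)]
    (m : ℕ) (D : Fin m → Derivation R A A) (f : Fin m → A) (hf : ∀ i, f i ∈ p)
    (hdet : Matrix.det (Matrix.of fun i j => D i (f j)) ∉ p) :
    IsRegularLocalRing (Localization.AtPrime p ⧸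
      Ideal.span (Set.range fun i => algebraMap A (Localization.AtPrime p) (f i))) := by
  classical
  refine (Groth.Agent.Lib.Helper47.isRegularLocalRing_quotient_and_isRegular_of_indep m
    (Localization.AtPrime p) (fun i => algebraMap A (Localization.AtPrime p) (f i)) ?_ ?_).1
  · intro i
    rw [IsLocalization.AtPrime.to_map_mem_maximal_iff (Localization.AtPrime p) p]
    exact hf i
  · intro c hc i
    obtain ⟨σ, hσ⟩ := IsLocalization.exist_integer_multiples_of_finite p.primeCompl c
    choose a ha using hσ
    have h1 : algebraMap A (Localization.AtPrime p) (∑ i, a i * f i) ∈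
        (p ^ 2).map (algebraMap A (Localization.AtPrime p)) := by
      rw [Ideal.map_pow, Localization.AtPrime.map_eq_maximalIdeal, map_sum]
      have h2 : ∑ i, algebraMap A (Localization.AtPrime p) (a i * f i) =
          algebraMap A (Localization.AtPrime p) (σ : A) *
            ∑ i, c i * algebraMap A (Localization.AtPrime p) (f i) := by
        rw [Finset.mul_sum]
        refine Finset.sum_congr rfl fun i _ => ?_
        rw [map_mul, ha i, Algebra.smul_def, mul_assoc]
      rw [h2]
      exact Ideal.mul_mem_left _ _ hc
    obtain ⟨τ, hτ, hτmem⟩ := (IsLocalization.algebraMap_mem_map_algebraMap_iff p.primeCompl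
      (Localization.AtPrime p) (p ^ 2) _).mp h1
    have h3 : ∀ l, ∑ i, D l (f i) * (τ * a i) ∈ p := by
      intro l
      have h4 := derivation_sq_mem (D l) p _ hτmem
      have h5 : D l (τ * ∑ i, a i * f i) =
          ∑ i, D l (f i) * (τ * a i) + ∑ i, f i * D l (τ * a i) := by
        rw [Finset.mul_sum, map_sum, ← Finset.sum_add_distrib]
        refine Finset.sum_congr rfl fun i _ => ?_
        rw [← mul_assoc, Derivation.leibniz, smul_eq_mul, smul_eq_mul]
        ring
      rw [h5] at h4
      have h6 : ∑ i, f i * D l (τ * a i) ∈ p :=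
        p.sum_mem fun i _ => p.mul_mem_right _ (hf i)
      exact (p.add_mem_iff_left h6).mp h4
    have hdet' : ((Matrix.of fun i j => D i (f j)).map (Ideal.Quotient.mk p)).det ≠ 0 := by
      rw [← RingHom.mapMatrix_apply, ← RingHom.map_det]
      exact fun h => hdet (Ideal.Quotient.eq_zero_iff_mem.mp h)
    have h7 : ((Matrix.of fun i j => D i (f j)).map (Ideal.Quotient.mk p)).mulVec
        (fun i => Ideal.Quotient.mk p (τ * a i)) = 0 := by
      funext l
      rw [Pi.zero_apply, Matrix.mulVec, dotProduct]
      simp only [Matrix.map_apply, Matrix.of_apply]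
      rw [← Ideal.Quotient.eq_zero_iff_mem.mpr (h3 l), map_sum]
      refine Finset.sum_congr rfl fun i _ => ?_
      rw [map_mul, map_mul, map_mul]
    have h8 := Matrix.eq_zero_of_mulVec_eq_zero hdet' h7
    have h9 : τ * a i ∈ p := Ideal.Quotient.eq_zero_iff_mem.mp (congrFun h8 i)
    have h10 : a i ∈ p := (Ideal.IsPrime.mem_or_mem inferInstance h9).resolve_left hτ
    have h11 : algebraMap A (Localization.AtPrime p) (a i) ∈
        maximalIdeal (Localization.AtPrime p) :=
      (IsLocalization.AtPrime.to_map_mem_maximal_iff (Localization.AtPrime p) p _).mpr h10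
    rw [ha i, Algebra.smul_def] at h11
    have hu : IsUnit (algebraMap A (Localization.AtPrime p) (σ : A)) :=
      IsLocalization.map_units (Localization.AtPrime p) σ
    exact ((Ideal.IsPrime.mem_or_mem (Ideal.IsMaximal.isPrime inferInstance) h11).resolve_left
      (fun h => (IsLocalRing.mem_maximalIdeal _).mp h hu))

end Groth.Agent.Lib.Helper88.Jacobian
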