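import Mathlib

/-!
# `(A/q)_{p/q} ≃ A_p / q A_p` (helper88)
-/

set_option autoImplicit false
set_option linter.unusedSectionVars false

universe u

namespace Groth.Agent.Lib.Helper88.Jacobian

open IsLocalRing

variable {A : Type u} [CommRing A] (q p : Ideal A) [p.IsPrime]

theorem algebraMapSubmonoid_primeCompl (hqp : q ≤ p) [(p.map (Ideal.Quotient.mk q)).IsPrime] :
    Algebra.algebraMapSubmonoid (A ⧸ q) p.primeCompl =
      (p.map (Ideal.Quotient.mk q)).primeCompl := by
  ext y
  constructor
  · rintro ⟨x, hx, rfl⟩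
    change (algebraMap A (A ⧸ q)) x ∉ p.map (Ideal.Quotient.mk q)
    rw [Ideal.Quotient.algebraMap_eq, Ideal.mem_quotient_iff_mem hqp]
    exact hx
  · intro hy
    obtain ⟨x, rfl⟩ := Ideal.Quotient.mk_surjective y
    refine ⟨x, ?_, rfl⟩
    intro hx
    exact hy ((Ideal.mem_quotient_iff_mem hqp).mpr hx)

/-- the localization of `A ⧸ q` at `p/q` is `A_p / q A_p`. -/
noncomputable def locQuotEquiv (hqp : q ≤ p) [(p.map (Ideal.Quotient.mk q)).IsPrime] :
    Localization.AtPrime (p.map (Ideal.Quotient.mk q)) ≃+*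
      (Localization.AtPrime p ⧸ q.map (algebraMap A (Localization.AtPrime p))) := by
  have h1 : IsLocalization (Algebra.algebraMapSubmonoid (A ⧸ q) p.primeCompl)
      (Localization.AtPrime p ⧸ q.map (algebraMap A (Localization.AtPrime p))) :=
    inferInstance
  rw [algebraMapSubmonoid_primeCompl q p hqp] at h1
  exact (IsLocalization.algEquiv (p.map (Ideal.Quotient.mk q)).primeCompl
    (Localization.AtPrime (p.map (Ideal.Quotient.mk q))) _).toRingEquiv

theorem isRegularLocalRing_iff (hqp : q ≤ p) [(p.map (Ideal.Quotient.mk q)).IsPrime] :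
    IsRegularLocalRing (Localization.AtPrime (p.map (Ideal.Quotient.mk q))) ↔
      IsRegularLocalRing
        (Localization.AtPrime p ⧸ q.map (algebraMap A (Localization.AtPrime p))) :=
  ⟨fun _ => IsRegularLocalRing.of_ringEquiv (locQuotEquiv q p hqp),
    fun _ => IsRegularLocalRing.of_ringEquiv (locQuotEquiv q p hqp).symm⟩

end Groth.Agent.Lib.Helper88.Jacobian
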