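import Mathlib

/-!
# Clearing denominators in generators of `P A_P` (helper88)
-/

set_option autoImplicit false
set_option linter.unusedSectionVars false

universe u

namespace Groth.Agent.Lib.Helper88.Jacobian

open IsLocalRing

section Span

variable {S : Type u} [CommRing S] {ι : Type*}

theorem span_range_mul_unit (x u : ι → S) (hu : ∀ i, IsUnit (u i)) :
    Ideal.span (Set.range fun i => x i * u i) = Ideal.span (Set.range x) := by
  apply le_antisymm
  · rw [Ideal.span_le]
    rintro _ ⟨i, rfl⟩
    exact Ideal.mul_mem_right _ _ (Ideal.subset_span ⟨i, rfl⟩)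
  · rw [Ideal.span_le]
    rintro _ ⟨i, rfl⟩
    obtain ⟨v, hv⟩ := hu i
    have h1 : x i = (x i * u i) * ((v⁻¹ : Sˣ) : S) := by
      rw [mul_assoc, ← hv, Units.mul_inv, mul_one]
    change x i ∈ _
    rw [h1]
    exact Ideal.mul_mem_right _ _ (Ideal.subset_span ⟨i, rfl⟩)

end Span

variable {A : Type u} [CommRing A] (p q : Ideal A) [p.IsPrime]

/-- generators of `p A_p` whose first `c` generate `q A_p` can be taken in `p`, the first `c`
in `q`. -/
theorem exists_generators_clear (h c : ℕ) (hc : c ≤ h) (x : Fin h → Localization.AtPrime p)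
    (hx : Ideal.span (Set.range x) = maximalIdeal (Localization.AtPrime p))
    (hq : q.map (algebraMap A (Localization.AtPrime p)) =
      Ideal.span (Set.range fun i : Fin c => x (Fin.castLE hc i))) :
    ∃ y : Fin h → A, (∀ l, y l ∈ p) ∧ (∀ i : Fin c, y (Fin.castLE hc i) ∈ q) ∧
      (Ideal.span (Set.range y)).map (algebraMap A (Localization.AtPrime p)) =
        maximalIdeal (Localization.AtPrime p) ∧
      q.map (algebraMap A (Localization.AtPrime p)) =
        Ideal.span (Set.range fun i : Fin c =>
          algebraMap A (Localization.AtPrime p) (y (Fin.castLE hc i))) := by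
  classical
  have hex : ∀ l : Fin h, ∃ (yl : A) (sl : p.primeCompl),
      x l * algebraMap A (Localization.AtPrime p) (sl : A) =
        algebraMap A (Localization.AtPrime p) yl ∧ (l.val < c → yl ∈ q) := by
    intro l
    by_cases hl : l.val < c
    · have hmem : x l ∈ q.map (algebraMap A (Localization.AtPrime p)) := by
        rw [hq]
        refine Ideal.subset_span ⟨⟨l.val, hl⟩, ?_⟩
        congr 1
      obtain ⟨⟨a, s⟩, has⟩ := (IsLocalization.mem_map_algebraMap_iff p.primeCompl
        (Localization.AtPrime p)).mp hmem
      exact ⟨a.1, s, has, fun _ => a.2⟩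
    · obtain ⟨⟨a, s⟩, has⟩ := IsLocalization.surj p.primeCompl (x l)
      exact ⟨a, s, has, fun h' => absurd h' hl⟩
  choose y s hys hyq using hex
  have hu : ∀ l, IsUnit (algebraMap A (Localization.AtPrime p) (s l : A)) := fun l =>
    IsLocalization.map_units (Localization.AtPrime p) (s l)
  have hfun : (fun l => algebraMap A (Localization.AtPrime p) (y l)) =
      fun l => x l * algebraMap A (Localization.AtPrime p) (s l : A) := by
    funext l
    exact (hys l).symm
  refine ⟨y, ?_, ?_, ?_, ?_⟩
  · intro l
    rw [← IsLocalization.AtPrime.to_map_mem_maximal_iff (Localization.AtPrime p) p, ← hys l]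
    refine Ideal.mul_mem_right _ _ ?_
    rw [← hx]
    exact Ideal.subset_span ⟨l, rfl⟩
  · intro i
    exact hyq _ i.2
  · rw [Ideal.map_span, ← Set.range_comp]
    change Ideal.span (Set.range fun l => algebraMap A (Localization.AtPrime p) (y l)) = _
    rw [hfun, span_range_mul_unit x _ hu, hx]
  · rw [hq]
    have hfun' : (fun i : Fin c => algebraMap A (Localization.AtPrime p) (y (Fin.castLE hc i))) =
        fun i : Fin c => x (Fin.castLE hc i) *
          algebraMap A (Localization.AtPrime p) (s (Fin.castLE hc i) : A) := by
      funext i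
      exact (hys _).symm
    rw [hfun', span_range_mul_unit (fun i : Fin c => x (Fin.castLE hc i)) _ (fun i => hu _)]

end Groth.Agent.Lib.Helper88.Jacobian
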