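import Mathlib
import Groth.Agent.S2477

/-!
# Auxiliary lemmas for Nagata's Jacobian criterion (helper88)
-/

set_option autoImplicit false
set_option linter.unusedSectionVars false

universe u

namespace Groth.Agent.Lib.Helper88.Jacobian

open IsLocalRing TensorProduct MvPowerSeries

section Expansion

variable (k : Type u) [Field k] (r : ℕ)

/-- `d̂ f = ∑ ∂f/∂T_i d̂ T_i` in the completed module of differentials of `k[[T_1..T_r]]`. -/
theorem of_D_eq_sum_pderiv (f : MvPowerSeries (Fin r) k) :
    AdicCompletion.of (maximalIdeal (MvPowerSeries (Fin r) k)) (Ω[MvPowerSeries (Fin r) k⁄k])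
      (KaehlerDifferential.D k (MvPowerSeries (Fin r) k) f) =
    ∑ i, pderiv k i f •
      AdicCompletion.of (maximalIdeal (MvPowerSeries (Fin r) k)) (Ω[MvPowerSeries (Fin r) k⁄k])
        (KaehlerDifferential.D k (MvPowerSeries (Fin r) k) (X i)) := by
  have hH : IsHausdorff (maximalIdeal (MvPowerSeries (Fin r) k))
      (AdicCompletion (maximalIdeal (MvPowerSeries (Fin r) k)) (Ω[MvPowerSeries (Fin r) k⁄k])) :=
    inferInstance
  have h0 : AdicCompletion.of (maximalIdeal (MvPowerSeries (Fin r) k))
      (Ω[MvPowerSeries (Fin r) k⁄k])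
      (∑ i, pderiv k i f • KaehlerDifferential.D k (MvPowerSeries (Fin r) k) (X i) -
        KaehlerDifferential.D k (MvPowerSeries (Fin r) k) f) = 0 := by
    apply hH.haus
    intro n
    rw [SModEq.zero]
    have h1 := Groth.Agent.S2477.Aux.A_comp_B_congr k r n
      (KaehlerDifferential.D k (MvPowerSeries (Fin r) k) f)
    rw [Groth.Agent.S2477.Aux.Amap_apply] at h1
    simp only [Groth.Agent.S2477.Aux.Bmap_D] at h1
    have h2 := Submodule.mem_map_of_mem (f := AdicCompletion.of
      (maximalIdeal (MvPowerSeries (Fin r) k)) (Ω[MvPowerSeries (Fin r) k⁄k])) h1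
    rw [Submodule.map_smul''] at h2
    exact Submodule.smul_mono le_rfl le_top h2
  rw [map_sub, sub_eq_zero, map_sum] at h0
  rw [← h0]
  refine Finset.sum_congr rfl fun i _ => ?_
  rw [map_smul]

end Expansion

section LinAlg

variable {A : Type u} [CommRing A] (p : Ideal A) [p.IsPrime]
  (V : Type u) [AddCommGroup V] [Module p.ResidueField V]

/-- from a linearly independent family expressed through an auxiliary family with coefficients
in `A`, get an `A`-linear combination of the rows with determinant outside `p`. -/
theorem exists_det_notMem (c r : ℕ) (v : Fin c → V) (hv : LinearIndependent p.ResidueField v)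
    (e : Fin r → V) (M : Fin r → Fin c → A)
    (hve : ∀ j, v j = ∑ l, algebraMap A p.ResidueField (M l j) • e l) :
    ∃ a : Fin c → Fin r → A,
      Matrix.det (Matrix.of fun i j => ∑ l, a i l * M l j) ∉ p := by
  classical
  have hinj : LinearMap.ker (Fintype.linearCombination p.ResidueField v) = ⊥ := by
    rw [LinearMap.ker_eq_bot]
    exact linearIndependent_iff_injective_fintypeLinearCombination.mp hv
  obtain ⟨g, hg⟩ := LinearMap.exists_leftInverse_of_injective _ hinj
  have hgv : ∀ j, g (v j) = Pi.single j 1 := by
    intro j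
    have h1 := LinearMap.congr_fun hg (Pi.single j 1)
    rw [LinearMap.comp_apply, LinearMap.id_apply] at h1
    rw [← h1]
    congr 1
    rw [Fintype.linearCombination_apply_single, one_smul]
  -- lift the coefficients
  have hres : ∀ il : Fin c × Fin r, ∃ b : Localization.AtPrime p,
      IsLocalRing.residue (Localization.AtPrime p) b = g (e il.2) il.1 := fun il =>
    IsLocalRing.residue_surjective _
  choose b hb using hres
  obtain ⟨σ, hσ⟩ := IsLocalization.exist_integer_multiples_of_finite p.primeCompl b
  choose a ha using hσ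
  have hσne : algebraMap A p.ResidueField (σ : A) ≠ 0 := by
    rw [Ne, Ideal.algebraMap_residueField_eq_zero]
    exact σ.2
  have haκ : ∀ i l, algebraMap A p.ResidueField (a (i, l)) =
      algebraMap A p.ResidueField (σ : A) * g (e l) i := by
    intro i l
    rw [IsScalarTower.algebraMap_apply A (Localization.AtPrime p) p.ResidueField, ha (i, l),
      Algebra.smul_def, map_mul, ← IsScalarTower.algebraMap_apply]
    congr 1
    exact hb (i, l)
  refine ⟨fun i l => a (i, l), ?_⟩
  intro hmem
  have h1 : algebraMap A p.ResidueField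
      (Matrix.det (Matrix.of fun i j => ∑ l, a (i, l) * M l j)) = 0 :=
    Ideal.algebraMap_residueField_eq_zero.mpr hmem
  rw [RingHom.map_det, RingHom.mapMatrix_apply] at h1
  have h2 : (Matrix.of fun i j => ∑ l, a (i, l) * M l j).map (algebraMap A p.ResidueField) =
      algebraMap A p.ResidueField (σ : A) • (1 : Matrix (Fin c) (Fin c) p.ResidueField) := by
    ext i j
    rw [Matrix.map_apply, Matrix.of_apply, map_sum, Matrix.smul_apply, Matrix.one_apply]
    have h3 : g (v j) i = ∑ l, algebraMap A p.ResidueField (M l j) * g (e l) i := by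
      rw [hve j, map_sum, Finset.sum_apply]
      refine Finset.sum_congr rfl fun l _ => ?_
      rw [map_smul, Pi.smul_apply, smul_eq_mul]
    rw [hgv j] at h3
    have h4 : ∑ l, algebraMap A p.ResidueField (a (i, l) * M l j) =
        algebraMap A p.ResidueField (σ : A) *
          ∑ l, algebraMap A p.ResidueField (M l j) * g (e l) i := by
      rw [Finset.mul_sum]
      refine Finset.sum_congr rfl fun l _ => ?_
      rw [map_mul, haκ]
      ring
    rw [h4, ← h3, Pi.single_apply, smul_eq_mul]
  rw [h2, Matrix.det_smul, Matrix.det_one, mul_one, Fintype.card_fin] at h1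
  exact hσne (eq_zero_of_pow_eq_zero h1)

end LinAlg

end Groth.Agent.Lib.Helper88.Jacobian
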