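import Mathlib

/-!
# Residue field of `(A/q)_{p/q}` as an abstract fraction field of `A/p`; separability polynomials
(helper88)
-/

set_option autoImplicit false
set_option linter.unusedSectionVars false

universe u

namespace Groth.Agent.Lib.Helper88.Jacobian

open IsLocalRing

section Res

variable {A : Type u} [CommRing A] (q p : Ideal A) [p.IsPrime]

theorem exists_ringHom_residue (hqp : q ≤ p) [(p.map (Ideal.Quotient.mk q)).IsPrime]
    (L : Type u) [Field L] [Algebra (A ⧸ p) L] [IsFractionRing (A ⧸ p) L] :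
    ∃ φ : Localization.AtPrime (p.map (Ideal.Quotient.mk q)) →+* L, Function.Surjective φ ∧
      ∀ b : A ⧸ q, φ (algebraMap (A ⧸ q) _ b) =
        algebraMap (A ⧸ p) L (Ideal.Quotient.factor hqp b) := by
  let ψ : A ⧸ q →+* L := (algebraMap (A ⧸ p) L).comp (Ideal.Quotient.factor hqp)
  have hψmk : ∀ x : A, ψ (Ideal.Quotient.mk q x) = algebraMap (A ⧸ p) L (Ideal.Quotient.mk p x) := by
    intro x
    change algebraMap (A ⧸ p) L (Ideal.Quotient.factor hqp (Ideal.Quotient.mk q x)) = _
    rw [Ideal.Quotient.factor_mk]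
  have hne : ∀ x : A, x ∉ p → algebraMap (A ⧸ p) L (Ideal.Quotient.mk p x) ≠ 0 := by
    intro x hx
    rw [Ne, map_eq_zero_iff _ (IsFractionRing.injective (A ⧸ p) L),
      Ideal.Quotient.eq_zero_iff_mem]
    exact hx
  have hψ : ∀ y : (p.map (Ideal.Quotient.mk q)).primeCompl, IsUnit (ψ y) := by
    rintro ⟨y, hy⟩
    obtain ⟨x, rfl⟩ := Ideal.Quotient.mk_surjective y
    have hx : x ∉ p := fun h => hy ((Ideal.mem_quotient_iff_mem hqp).mpr h)
    rw [isUnit_iff_ne_zero]
    change ψ (Ideal.Quotient.mk q x) ≠ 0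
    rw [hψmk]
    exact hne x hx
  refine ⟨IsLocalization.lift hψ, ?_, fun b => IsLocalization.lift_eq hψ b⟩
  intro z
  obtain ⟨a, b, hb, rfl⟩ := IsFractionRing.div_surjective (A := A ⧸ p) z
  obtain ⟨a₀, rfl⟩ := Ideal.Quotient.mk_surjective a
  obtain ⟨b₀, rfl⟩ := Ideal.Quotient.mk_surjective b
  have hb₀ : b₀ ∉ p := fun h =>
    (nonZeroDivisors.ne_zero hb) (Ideal.Quotient.eq_zero_iff_mem.mpr h)
  have hb₁ : Ideal.Quotient.mk q b₀ ∈ (p.map (Ideal.Quotient.mk q)).primeCompl := fun h =>
    hb₀ ((Ideal.mem_quotient_iff_mem hqp).mp h)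
  refine ⟨IsLocalization.mk' _ (Ideal.Quotient.mk q a₀) ⟨Ideal.Quotient.mk q b₀, hb₁⟩, ?_⟩
  rw [IsLocalization.lift_mk'_spec]
  change ψ (Ideal.Quotient.mk q a₀) = ψ (Ideal.Quotient.mk q b₀) * _
  rw [hψmk, hψmk, mul_div_cancel₀ _ (hne b₀ hb₀)]

end Res

section Sep

open MvPowerSeries

variable (k : Type u) [Field k] (s : ℕ)

/-- separability polynomials from an abstract separable extension of fraction fields. -/
theorem hsep_of_isSeparable (C : Type u) [CommRing C] [IsDomain C]
    [Algebra (MvPowerSeries (Fin s) k) C]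
    (L' L : Type u) [Field L'] [Field L]
    [Algebra (MvPowerSeries (Fin s) k) L'] [IsFractionRing (MvPowerSeries (Fin s) k) L']
    [Algebra C L] [IsFractionRing C L] [Algebra L' L] [Algebra (MvPowerSeries (Fin s) k) L]
    [IsScalarTower (MvPowerSeries (Fin s) k) C L] [IsScalarTower (MvPowerSeries (Fin s) k) L' L]
    [Algebra.IsSeparable L' L] (a : C) :
    ∃ Q : Polynomial (MvPowerSeries (Fin s) k), Polynomial.aeval a Q = 0 ∧
      (Q.map (algebraMap (MvPowerSeries (Fin s) k)
        (FractionRing (MvPowerSeries (Fin s) k)))).Separable := by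
  have hdomP : IsDomain (MvPowerSeries (Fin s) k) := NoZeroDivisors.to_isDomain _
  have hmsep : (minpoly L' (algebraMap C L a)).Separable :=
    Algebra.IsSeparable.isSeparable L' (algebraMap C L a)
  obtain ⟨b, hb, hQ⟩ := IsLocalization.integerNormalization_spec
    (nonZeroDivisors (MvPowerSeries (Fin s) k)) (minpoly L' (algebraMap C L a))
  refine ⟨IsLocalization.integerNormalization (nonZeroDivisors (MvPowerSeries (Fin s) k))
    (minpoly L' (algebraMap C L a)), ?_, ?_⟩
  · apply IsFractionRing.injective C L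
    rw [map_zero, ← Polynomial.aeval_algebraMap_apply]
    exact IsLocalization.integerNormalization_aeval_eq_zero
      (nonZeroDivisors (MvPowerSeries (Fin s) k)) _ (minpoly.aeval _ _)
  · let e : FractionRing (MvPowerSeries (Fin s) k) ≃ₐ[MvPowerSeries (Fin s) k] L' :=
      FractionRing.algEquiv (MvPowerSeries (Fin s) k) L'
    have hcomp : (e : FractionRing (MvPowerSeries (Fin s) k) →+* L').comp
        (algebraMap (MvPowerSeries (Fin s) k) (FractionRing (MvPowerSeries (Fin s) k))) =
        algebraMap (MvPowerSeries (Fin s) k) L' := RingHom.ext e.commutes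
    rw [← Polynomial.separable_map (e : FractionRing (MvPowerSeries (Fin s) k) →+* L'),
      Polynomial.map_map, hcomp, hQ, ← algebraMap_smul L' b, Polynomial.smul_eq_C_mul]
    refine Polynomial.Separable.unit_mul (Polynomial.isUnit_C.mpr ?_) hmsep
    rw [isUnit_iff_ne_zero]
    exact IsFractionRing.to_map_ne_zero_of_mem_nonZeroDivisors hb

end Sep

end Groth.Agent.Lib.Helper88.Jacobian
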