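import Mathlib
import Groth.Agent.Lib.Helper88.OmegaHat.FibreUpperZero

/-!
# Spanning the fibre of `Ω̂_{A/k}` at a prime (helper88)

`A` complete Noetherian local `k`-algebra with residue field finite over `k`, `P` a prime such that
`A/P` is finite over `k[[X_1..X_n]]` and `Ω_{(A/P)/k[[X]]}` is killed by an element outside `P`.
If `x_1, …, x_h ∈ P` generate `P A_P`, the fibre `κ(P) ⊗ Ω̂_{A/k}` is spanned by the `d̂ t_j`
(`t_j` lifting `X_j`) and the `d̂ x_l`.
-/

set_option autoImplicit false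
set_option linter.unusedSectionVars false

universe u

namespace Groth.Agent.Lib.Helper88.Jacobian

open MvPowerSeries TensorProduct IsLocalRing Groth.Agent.Lib.Helper88.OmegaHat

variable (k A : Type u) [Field k] [CommRing A] [IsLocalRing A] [IsNoetherianRing A]
  [Algebra k A] [IsAdicComplete (maximalIdeal A) A] [Module.Finite k (ResidueField A)]
  (P : Ideal A) [P.IsPrime] (n : ℕ) [IsLocalRing (A ⧸ P)]
  [Algebra (MvPowerSeries (Fin n) k) (A ⧸ P)] [IsScalarTower k (MvPowerSeries (Fin n) k) (A ⧸ P)]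
  [Module.Finite (MvPowerSeries (Fin n) k) (A ⧸ P)]
  [IsLocalHom (algebraMap (MvPowerSeries (Fin n) k) (A ⧸ P))]

theorem span_fibre_eq_top (c₀ : A) (hc₀P : c₀ ∉ P)
    (hkill : ∀ ω' : Ω[(A ⧸ P)⁄MvPowerSeries (Fin n) k], (Ideal.Quotient.mk P c₀) • ω' = 0)
    (t : Fin n → A)
    (ht : ∀ j, Ideal.Quotient.mk P (t j) = algebraMap (MvPowerSeries (Fin n) k) (A ⧸ P) (X j))
    (h : ℕ) (x : Fin h → A) (hxP : ∀ l, x l ∈ P)
    (hgen : (Ideal.span (Set.range x)).map (algebraMap A (Localization.AtPrime P)) =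
      maximalIdeal (Localization.AtPrime P)) :
    Submodule.span P.ResidueField (Set.range
      (Sum.elim (fun j : Fin n => (1 : P.ResidueField) ⊗ₜ[A] dHat k A (t j))
        (fun l : Fin h => (1 : P.ResidueField) ⊗ₜ[A] dHat k A (x l)))) = ⊤ := by
  classical
  have hfinΩ := finite_omegaHat' k A
  set g : Fin n ⊕ Fin h → P.ResidueField ⊗[A] AdicCompletion (maximalIdeal A) (Ω[A⁄k]) :=
    Sum.elim (fun j => (1 : P.ResidueField) ⊗ₜ[A] dHat k A (t j))
      (fun l => (1 : P.ResidueField) ⊗ₜ[A] dHat k A (x l)) with hg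
  set W : Submodule P.ResidueField
      (P.ResidueField ⊗[A] AdicCompletion (maximalIdeal A) (Ω[A⁄k])) :=
    Submodule.span P.ResidueField (Set.range g) with hW
  let T : Submodule A (AdicCompletion (maximalIdeal A) (Ω[A⁄k])) :=
    (W.restrictScalars A).comap
      (TensorProduct.mk A P.ResidueField (AdicCompletion (maximalIdeal A) (Ω[A⁄k])) 1)
  have hT : ∀ y, y ∈ T ↔ (1 : P.ResidueField) ⊗ₜ[A] y ∈ W := fun y => Iff.rfl
  have hPT : (P • ⊤ : Submodule A (AdicCompletion (maximalIdeal A) (Ω[A⁄k]))) ≤ T := by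
    rw [Submodule.smul_le]
    intro a ha y _
    rw [hT, one_tmul_smul_eq_zero P _ a ha y]
    exact W.zero_mem
  have htT : ∀ j, dHat k A (t j) ∈ T := fun j =>
    (hT _).mpr (Submodule.subset_span ⟨Sum.inl j, rfl⟩)
  have hxT : ∀ a ∈ P, dHat k A a ∈ T := by
    intro a ha
    rw [hT]
    refine one_tmul_D_mem_of_generators P _ (dHat k A) (dHat_add k A) (dHat_mul k A) W
      (Set.range x) ?_ hgen ?_ a ha
    · rintro _ ⟨l, rfl⟩
      exact hxP l
    · rintro _ ⟨l, rfl⟩
      exact Submodule.subset_span ⟨Sum.inr l, rfl⟩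
  have happrox : ∀ (ω : Ω[A⁄k]) (m : ℕ), c₀ • AdicCompletion.of (maximalIdeal A) (Ω[A⁄k]) ω ∈
      T ⊔ (maximalIdeal A ^ m • ⊤ :
        Submodule A (AdicCompletion (maximalIdeal A) (Ω[A⁄k]))) := by
    intro ω m
    obtain ⟨a, haP, ha⟩ := exists_smul_sub_D_mem k A P n c₀ hkill t ht ω m
    have hle : Submodule.span A (Set.range fun j => KaehlerDifferential.D k A (t j)) ⊔
        (maximalIdeal A ^ m • ⊤ : Submodule A (Ω[A⁄k])) ⊔ (P • ⊤ : Submodule A (Ω[A⁄k])) ≤
        (T ⊔ (maximalIdeal A ^ m • ⊤ :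
          Submodule A (AdicCompletion (maximalIdeal A) (Ω[A⁄k])))).comap
          (AdicCompletion.of (maximalIdeal A) (Ω[A⁄k])) := by
      refine sup_le (sup_le ?_ ?_) ?_
      · rw [Submodule.span_le]
        rintro _ ⟨j, rfl⟩
        exact Submodule.mem_sup_left (htT j)
      · intro η hη
        exact Submodule.mem_sup_right (of_mem_pow_smul_top (maximalIdeal A) (Ω[A⁄k]) m η hη)
      · rw [Submodule.smul_le]
        intro b hb η _
        rw [Submodule.mem_comap, map_smul]
        exact Submodule.mem_sup_left (hPT (Submodule.smul_mem_smul hb trivial))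
    have h1 := hle ha
    rw [Submodule.mem_comap, map_sub, map_smul] at h1
    have h2 : c₀ • AdicCompletion.of (maximalIdeal A) (Ω[A⁄k]) ω =
        (c₀ • AdicCompletion.of (maximalIdeal A) (Ω[A⁄k]) ω -
          AdicCompletion.of (maximalIdeal A) (Ω[A⁄k]) (KaehlerDifferential.D k A a)) +
        dHat k A a := by
      unfold dHat
      abel
    rw [h2]
    exact Submodule.add_mem _ h1 (Submodule.mem_sup_left (hxT a haP))
  have hall : ∀ y : AdicCompletion (maximalIdeal A) (Ω[A⁄k]), c₀ • y ∈ T :=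
    smul_mem_of_forall_mem_sup (Ω[A⁄k]) T c₀ happrox
  have hc₀ne : algebraMap A P.ResidueField c₀ ≠ 0 := by
    rw [Ne, Ideal.algebraMap_residueField_eq_zero]
    exact hc₀P
  rw [eq_top_iff]
  rintro v -
  induction v using TensorProduct.induction_on with
  | zero => exact W.zero_mem
  | add v w hv hw => exact W.add_mem hv hw
  | tmul c y =>
    have h1 : (1 : P.ResidueField) ⊗ₜ[A] y ∈ W := by
      have h2 := (hT _).mp (hall y)
      rw [one_tmul_smul] at h2
      exact (Submodule.smul_mem_iff W hc₀ne).mp h2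
    have h3 : c ⊗ₜ[A] y = c • ((1 : P.ResidueField) ⊗ₜ[A] y) := by
      rw [TensorProduct.smul_tmul', smul_eq_mul, mul_one]
    rw [h3]
    exact W.smul_mem _ h1

end Groth.Agent.Lib.Helper88.Jacobian
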