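import Mathlib
import Groth.Agent.Lib.Helper88.Jacobian.LocQuot
import Groth.Agent.Lib.Helper88.Jacobian.SpanFibre
import Groth.Agent.Lib.Helper88.Jacobian.GenClear
import Groth.Agent.Lib.Helper88.Jacobian.LinAlgDer
import Groth.Agent.Lib.Helper88.Jacobian.ResField
import Groth.Agent.Lib.Helper58.MvPSComplete
import Groth.Agent.Lib.Helper73.RegularPowerSeries
import Groth.Agent.Lib.Helper85.RegularGens
import Groth.Agent.Lib.Helper79.DSeqPrime
import Groth.Agent.Lib.Helper55.KrullDimIntegral
import Groth.Agent.S11741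

/-!
# Nagata's Jacobian criterion for quotients of power series rings: regular ⇒ Jacobian (helper88)
-/

set_option autoImplicit false
set_option linter.unusedSectionVars false

universe u

namespace Groth.Agent.Lib.Helper88.Jacobian

open IsLocalRing TensorProduct MvPowerSeries Groth.Agent.Lib.Helper88.OmegaHat

section Inst

variable (k : Type u) [Field k] (r : ℕ)

theorem isAdicComplete_mvPowerSeries :
    IsAdicComplete (maximalIdeal (MvPowerSeries (Fin r) k)) (MvPowerSeries (Fin r) k) := by
  have : IsAdicComplete (maximalIdeal k) k := by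
    rw [IsLocalRing.maximalIdeal_eq_bot]; infer_instance
  exact Groth.Agent.Lib.Helper58.MvPSComplete.isAdicComplete

theorem finite_residueField_mvPowerSeries :
    Module.Finite k (ResidueField (MvPowerSeries (Fin r) k)) := by
  refine Module.Finite.of_surjective
    (Algebra.linearMap k (ResidueField (MvPowerSeries (Fin r) k))) ?_
  intro z
  obtain ⟨f, rfl⟩ := IsLocalRing.residue_surjective z
  refine ⟨MvPowerSeries.constantCoeff f, ?_⟩
  rw [Algebra.linearMap_apply, IsScalarTower.algebraMap_apply k (MvPowerSeries (Fin r) k)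
    (ResidueField (MvPowerSeries (Fin r) k))]
  change IsLocalRing.residue _ (algebraMap k (MvPowerSeries (Fin r) k) _) = IsLocalRing.residue _ f
  rw [← sub_eq_zero, ← map_sub, IsLocalRing.residue_eq_zero_iff, IsLocalRing.mem_maximalIdeal,
    mem_nonunits_iff, MvPowerSeries.isUnit_iff_constantCoeff, map_sub]
  change ¬ IsUnit (MvPowerSeries.constantCoeff (C (MvPowerSeries.constantCoeff f)) -
    MvPowerSeries.constantCoeff f)
  rw [MvPowerSeries.constantCoeff_C, sub_self]
  exact not_isUnit_zero

end Inst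

section Main

variable {k : Type u} [Field k] (r : ℕ)
  (q p : Ideal (MvPowerSeries (Fin r) k)) [p.IsPrime]

theorem jacobian_of_regular (hqp : q ≤ p) [(p.map (Ideal.Quotient.mk q)).IsPrime]
    (s : ℕ) [Algebra (MvPowerSeries (Fin s) k) (MvPowerSeries (Fin r) k ⧸ p)]
    [IsScalarTower k (MvPowerSeries (Fin s) k) (MvPowerSeries (Fin r) k ⧸ p)]
    [Module.Finite (MvPowerSeries (Fin s) k) (MvPowerSeries (Fin r) k ⧸ p)]
    (hinj : Function.Injective (algebraMap (MvPowerSeries (Fin s) k) (MvPowerSeries (Fin r) k ⧸ p)))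
    {L' L : Type u} [Field L'] [Field L]
    [Algebra (MvPowerSeries (Fin s) k) L'] [IsFractionRing (MvPowerSeries (Fin s) k) L']
    [Algebra (MvPowerSeries (Fin r) k ⧸ p) L] [IsFractionRing (MvPowerSeries (Fin r) k ⧸ p) L]
    [Algebra L' L] [Algebra (MvPowerSeries (Fin s) k) L]
    [IsScalarTower (MvPowerSeries (Fin s) k) (MvPowerSeries (Fin r) k ⧸ p) L]
    [IsScalarTower (MvPowerSeries (Fin s) k) L' L] [Algebra.IsSeparable L' L]
    (hreg : IsRegularLocalRing (Localization.AtPrime (p.map (Ideal.Quotient.mk q)))) :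
    ∃ (m : ℕ) (D : Fin m → Derivation k (MvPowerSeries (Fin r) k) (MvPowerSeries (Fin r) k))
      (f : Fin m → MvPowerSeries (Fin r) k), (∀ i, f i ∈ q) ∧
      q.map (algebraMap (MvPowerSeries (Fin r) k) (Localization.AtPrime p)) =
        Ideal.span (Set.range fun i =>
          algebraMap (MvPowerSeries (Fin r) k) (Localization.AtPrime p) (f i)) ∧
      Matrix.det (Matrix.of fun i j => D i (f j)) ∉ p := by
  classical
  -- instances for `A = k[[T_1..T_r]]`
  have hAcompl := isAdicComplete_mvPowerSeries k r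
  have hresfin := finite_residueField_mvPowerSeries k r
  have hregA : IsRegularRing (MvPowerSeries (Fin r) k) :=
    Groth.Agent.Lib.Helper73.RegularRing.isRegularRing_mvPowerSeries k r
  have hregAp : IsRegularLocalRing (Localization.AtPrime p) := inferInstance
  have hh : ringKrullDim (Localization.AtPrime p) =
      ((maximalIdeal (Localization.AtPrime p)).spanFinrank : ℕ) :=
    (IsRegularLocalRing.spanFinrank_maximalIdeal (R := Localization.AtPrime p)).symm
  have hreg' : IsRegularLocalRing (Localization.AtPrime p ⧸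
      q.map (algebraMap (MvPowerSeries (Fin r) k) (Localization.AtPrime p))) :=
    (isRegularLocalRing_iff q p hqp).mp hreg
  obtain ⟨x, c, hc, hx, hqx⟩ := Groth.Agent.Lib.Helper85.exists_generators_of_quotient_regular
    _ hh (q.map (algebraMap (MvPowerSeries (Fin r) k) (Localization.AtPrime p))) hreg'
  obtain ⟨y, hyP, hyq, hygen, hqy⟩ := exists_generators_clear p q _ c hc x hx hqx
  -- the structure on `A ⧸ p`
  have hne : p ≠ ⊤ := Ideal.IsPrime.ne_top inferInstance
  have hloc : IsLocalRing (MvPowerSeries (Fin r) k ⧸ p) :=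
    Groth.Agent.Lib.Helper85.isLocalRing_quotient p hne
  have hfaith : FaithfulSMul (MvPowerSeries (Fin s) k) (MvPowerSeries (Fin r) k ⧸ p) :=
    (faithfulSMul_iff_algebraMap_injective _ _).mpr hinj
  have hdomP : IsDomain (MvPowerSeries (Fin s) k) := NoZeroDivisors.to_isDomain _
  have hfaithK : FaithfulSMul (MvPowerSeries (Fin s) k)
      (FractionRing (MvPowerSeries (Fin r) k ⧸ p)) := by
    rw [faithfulSMul_iff_algebraMap_injective,
      IsScalarTower.algebraMap_eq (MvPowerSeries (Fin s) k) (MvPowerSeries (Fin r) k ⧸ p)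
        (FractionRing (MvPowerSeries (Fin r) k ⧸ p))]
    exact (IsFractionRing.injective (MvPowerSeries (Fin r) k ⧸ p)
      (FractionRing (MvPowerSeries (Fin r) k ⧸ p))).comp hinj
  let _ : Algebra (FractionRing (MvPowerSeries (Fin s) k))
      (FractionRing (MvPowerSeries (Fin r) k ⧸ p)) :=
    FractionRing.liftAlgebra (MvPowerSeries (Fin s) k) (FractionRing (MvPowerSeries (Fin r) k ⧸ p))
  have : IsScalarTower (MvPowerSeries (Fin s) k) (FractionRing (MvPowerSeries (Fin s) k))
      (FractionRing (MvPowerSeries (Fin r) k ⧸ p)) :=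
    FractionRing.isScalarTower_liftAlgebra (MvPowerSeries (Fin s) k)
      (FractionRing (MvPowerSeries (Fin r) k ⧸ p))
  have hint : Algebra.IsIntegral (MvPowerSeries (Fin s) k) (MvPowerSeries (Fin r) k ⧸ p) :=
    inferInstance
  have hmaxc : ((maximalIdeal (MvPowerSeries (Fin r) k ⧸ p)).comap
      (algebraMap (MvPowerSeries (Fin s) k) (MvPowerSeries (Fin r) k ⧸ p))).IsMaximal :=
    Ideal.isMaximal_comap_of_isIntegral_of_isMaximal (maximalIdeal (MvPowerSeries (Fin r) k ⧸ p))
  have hlocal : IsLocalHom (algebraMap (MvPowerSeries (Fin s) k) (MvPowerSeries (Fin r) k ⧸ p)) := by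
    refine ((local_hom_TFAE (algebraMap (MvPowerSeries (Fin s) k)
      (MvPowerSeries (Fin r) k ⧸ p))).out 3 0).mp ?_
    rw [IsLocalRing.eq_maximalIdeal hmaxc]
  have hsep := hsep_of_isSeparable k s (MvPowerSeries (Fin r) k ⧸ p) L' L
  obtain ⟨c₀', hc₀', hkill⟩ := exists_ne_zero_smul_eq_zero k s (MvPowerSeries (Fin r) k ⧸ p) hsep
  obtain ⟨c₀, rfl⟩ := Ideal.Quotient.mk_surjective c₀'
  have hc₀P : c₀ ∉ p := fun hmem => hc₀' (Ideal.Quotient.eq_zero_iff_mem.mpr hmem)
  choose t ht using fun j : Fin s => Ideal.Quotient.mk_surjective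
    (algebraMap (MvPowerSeries (Fin s) k) (MvPowerSeries (Fin r) k ⧸ p) (X j))
  have hspan := span_fibre_eq_top k (MvPowerSeries (Fin r) k) p s c₀ hc₀P hkill t ht _ y hyP hygen
  -- dimensions
  obtain ⟨hΩfin, hΩfree, hΩrank⟩ := Groth.Agent.S2477.result k r
  have hVrank : Module.finrank p.ResidueField (p.ResidueField ⊗[MvPowerSeries (Fin r) k]
      AdicCompletion (maximalIdeal (MvPowerSeries (Fin r) k)) (Ω[MvPowerSeries (Fin r) k⁄k])) = r := by
    rw [Module.finrank_baseChange, hΩrank]
  have hdimA : ringKrullDim (MvPowerSeries (Fin r) k) = r :=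
    Groth.Agent.S11741.ringKrullDim_mvPowerSeries k r
  have hdimC : ringKrullDim (MvPowerSeries (Fin r) k ⧸ p) = s := by
    rw [Groth.Agent.Lib.Helper55.ringKrullDim_eq_of_isIntegral_of_injective
      (MvPowerSeries (Fin s) k) (MvPowerSeries (Fin r) k ⧸ p) hinj]
    exact Groth.Agent.S11741.ringKrullDim_mvPowerSeries k s
  have hle : (maximalIdeal (Localization.AtPrime p)).spanFinrank + s ≤ r := by
    have h1 := Groth.Agent.Lib.Helper79.DSeqPrime.height_add_ringKrullDim_quotient_le p
    rw [← IsLocalization.AtPrime.ringKrullDim_eq_height p (Localization.AtPrime p), hh, hdimC,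
      hdimA] at h1
    exact_mod_cast h1
  have hge : r ≤ s + (maximalIdeal (Localization.AtPrime p)).spanFinrank := by
    have h1 := finrank_range_le_card (R := p.ResidueField)
      (Sum.elim (fun j : Fin s => (1 : p.ResidueField) ⊗ₜ[MvPowerSeries (Fin r) k]
          dHat k (MvPowerSeries (Fin r) k) (t j))
        (fun l : Fin (maximalIdeal (Localization.AtPrime p)).spanFinrank =>
          (1 : p.ResidueField) ⊗ₜ[MvPowerSeries (Fin r) k] dHat k (MvPowerSeries (Fin r) k) (y l)))
    rw [Set.finrank, hspan, finrank_top, hVrank, Fintype.card_sum, Fintype.card_fin,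
      Fintype.card_fin] at h1
    exact h1
  have hli : LinearIndependent p.ResidueField
      (Sum.elim (fun j : Fin s => (1 : p.ResidueField) ⊗ₜ[MvPowerSeries (Fin r) k]
          dHat k (MvPowerSeries (Fin r) k) (t j))
        (fun l : Fin (maximalIdeal (Localization.AtPrime p)).spanFinrank =>
          (1 : p.ResidueField) ⊗ₜ[MvPowerSeries (Fin r) k]
            dHat k (MvPowerSeries (Fin r) k) (y l))) := by
    refine linearIndependent_of_top_le_span_of_card_eq_finrank hspan.ge ?_
    rw [hVrank, Fintype.card_sum, Fintype.card_fin, Fintype.card_fin]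
    omega
  have hli' : LinearIndependent p.ResidueField (fun i : Fin c =>
      (1 : p.ResidueField) ⊗ₜ[MvPowerSeries (Fin r) k]
        dHat k (MvPowerSeries (Fin r) k) (y (Fin.castLE hc i))) := by
    have hinj' : Function.Injective (fun i : Fin c =>
        (Sum.inr (Fin.castLE hc i) :
          Fin s ⊕ Fin (maximalIdeal (Localization.AtPrime p)).spanFinrank)) :=
      Sum.inr_injective.comp (Fin.castLE_injective hc)
    exact hli.comp _ hinj'
  -- expansion in the `d̂ T_l`
  have hexp : ∀ j : Fin c, (1 : p.ResidueField) ⊗ₜ[MvPowerSeries (Fin r) k]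
        dHat k (MvPowerSeries (Fin r) k) (y (Fin.castLE hc j)) =
      ∑ l : Fin r, algebraMap (MvPowerSeries (Fin r) k) p.ResidueField
          (pderiv k l (y (Fin.castLE hc j))) •
        ((1 : p.ResidueField) ⊗ₜ[MvPowerSeries (Fin r) k]
          dHat k (MvPowerSeries (Fin r) k) (X l)) := by
    intro j
    unfold dHat
    rw [of_D_eq_sum_pderiv, TensorProduct.tmul_sum]
    refine Finset.sum_congr rfl fun l _ => ?_
    rw [one_tmul_smul]
  obtain ⟨a, ha⟩ := exists_det_notMem p _ c r _ hli' _
    (fun l j => pderiv k l (y (Fin.castLE hc j))) hexp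
  refine ⟨c, fun i => ∑ l, a i l • pderiv k l, fun i => y (Fin.castLE hc i), hyq, hqy, ?_⟩
  have hD : ∀ i j, (∑ l, a i l • pderiv k l) (y (Fin.castLE hc j)) =
      ∑ l, a i l * pderiv k l (y (Fin.castLE hc j)) := by
    intro i j
    have h1 : ⇑(∑ l, a i l • pderiv (R := k) l) = ∑ l, ⇑(a i l • pderiv (R := k) l) :=
      map_sum Derivation.coeFnAddMonoidHom _ _
    rw [h1, Finset.sum_apply]
    refine Finset.sum_congr rfl fun l _ => ?_
    rw [Derivation.smul_apply, smul_eq_mul]
  simp only [hD]
  exact ha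

end Main

end Groth.Agent.Lib.Helper88.Jacobian
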