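import Mathlib
import Groth.Agent.Lib.Helper88.OmegaHat.FieldRank
import Groth.Agent.Lib.Helper88.ImperfKey
import Groth.Agent.S2471

/-!
# Regular + separable residue field over a power series fraction field ⇒ formally smooth (helper88)
-/

set_option autoImplicit false
set_option linter.unusedSectionVars false

universe u

namespace Groth.Agent.Lib.Helper88.Jacobian

open IsLocalRing TensorProduct MvPowerSeries Groth.Agent.Lib.Helper88.OmegaHat
  Groth.Agent.Lib.Helper88.ImperfKey

section Field

attribute [local instance 10000] Ring.toIntAlgebra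

variable (k : Type u) [Field k] (n : ℕ) (L : Type u) [Field L]
  [Algebra (MvPowerSeries (Fin n) k) L] [Algebra k L] [IsScalarTower k (MvPowerSeries (Fin n) k) L]
  [Algebra (FractionRing (MvPowerSeries (Fin n) k)) L]
  [IsScalarTower (MvPowerSeries (Fin n) k) (FractionRing (MvPowerSeries (Fin n) k)) L]

/-- a separable algebraic extension of `Frac k[[T]]` has no imperfection over `k`. -/
theorem injective_mapBaseChange_of_isSeparable
    [Algebra.IsSeparable (FractionRing (MvPowerSeries (Fin n) k)) L] :
    Function.Injective (KaehlerDifferential.mapBaseChange ℤ k L) := by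
  have hfe : Algebra.FormallyEtale (FractionRing (MvPowerSeries (Fin n) k)) L :=
    Algebra.FormallyEtale.of_isSeparable (FractionRing (MvPowerSeries (Fin n) k)) L
  have h1 : Function.Injective
      (KaehlerDifferential.mapBaseChange ℤ (FractionRing (MvPowerSeries (Fin n) k)) L) :=
    (KaehlerDifferential.tensorKaehlerEquivOfFormallyEtale ℤ
      (FractionRing (MvPowerSeries (Fin n) k)) L).injective
  intro z w hzw
  apply gam_injective k n L
  apply h1
  rw [mapBaseChange_gam, mapBaseChange_gam, hzw]

end Field

section Abstract

/-- the same with abstract fraction fields. -/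
theorem injective_mapBaseChange_of_isSeparable' (k : Type u) [Field k] (s : ℕ) (C : Type u)
    [CommRing C] [Algebra k C]
    [Algebra (MvPowerSeries (Fin s) k) C] [IsScalarTower k (MvPowerSeries (Fin s) k) C]
    (L' L : Type u) [Field L'] [Field L]
    [Algebra (MvPowerSeries (Fin s) k) L'] [IsFractionRing (MvPowerSeries (Fin s) k) L']
    [Algebra C L] [Algebra L' L] [Algebra (MvPowerSeries (Fin s) k) L]
    [IsScalarTower (MvPowerSeries (Fin s) k) C L] [IsScalarTower (MvPowerSeries (Fin s) k) L' L]
    [Algebra.IsSeparable L' L] [Algebra k L] [IsScalarTower k C L] :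
    Function.Injective (KaehlerDifferential.mapBaseChange ℤ k L) := by
  have hdomP : IsDomain (MvPowerSeries (Fin s) k) := NoZeroDivisors.to_isDomain _
  let e : FractionRing (MvPowerSeries (Fin s) k) ≃ₐ[MvPowerSeries (Fin s) k] L' :=
    FractionRing.algEquiv (MvPowerSeries (Fin s) k) L'
  let _ : Algebra (FractionRing (MvPowerSeries (Fin s) k)) L :=
    ((algebraMap L' L).comp e.toRingEquiv.toRingHom).toAlgebra
  have hmap : ∀ x, algebraMap (FractionRing (MvPowerSeries (Fin s) k)) L x =
      algebraMap L' L (e x) := fun x => rfl
  have t1 : IsScalarTower (MvPowerSeries (Fin s) k) (FractionRing (MvPowerSeries (Fin s) k)) L := by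
    refine IsScalarTower.of_algebraMap_eq (fun x => ?_)
    rw [hmap, e.commutes, ← IsScalarTower.algebraMap_apply]
  have t2 : IsScalarTower k (MvPowerSeries (Fin s) k) L := by
    refine IsScalarTower.of_algebraMap_eq (fun c => ?_)
    rw [IsScalarTower.algebraMap_apply k C L, IsScalarTower.algebraMap_apply k
      (MvPowerSeries (Fin s) k) C, ← IsScalarTower.algebraMap_apply (MvPowerSeries (Fin s) k) C L]
  have hsep : Algebra.IsSeparable (FractionRing (MvPowerSeries (Fin s) k)) L := by
    refine Algebra.IsSeparable.of_equiv_equiv (A₁ := L') (B₁ := L) e.symm.toRingEquiv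
      (RingEquiv.refl L) ?_
    ext x
    change algebraMap L' L (e (e.symm x)) = algebraMap L' L x
    rw [e.apply_symm_apply]
  exact injective_mapBaseChange_of_isSeparable k s L

end Abstract

section Smooth

variable (k R K : Type u) [Field k] [CommRing R] [IsLocalRing R] [IsNoetherianRing R]
  [Algebra k R] [Field K] [Algebra R K] [Algebra k K] [IsScalarTower k R K]

/-- a regular local `k`-algebra whose residue field has no imperfection over `k` is formally
smooth. -/
theorem isAdicFormallySmooth_of_regular_of_injective
    (hsurj : Function.Surjective (algebraMap R K)) (hreg : IsRegularLocalRing R)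
    (hinj : Function.Injective (KaehlerDifferential.mapBaseChange ℤ k K)) :
    CAlgX.IsAdicFormallySmooth k R (maximalIdeal R) := by
  refine Groth.Agent.S2471.result.mpr ⟨hreg, (injective_lTensor_iff k R K hsurj).mpr ?_⟩
  intro z w hzw
  apply hinj
  rw [← mapBaseChange_Phi k R K z, ← mapBaseChange_Phi k R K w, hzw]

end Smooth

end Groth.Agent.Lib.Helper88.Jacobian
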